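import Groth.Agent.Lib.LabDetH28.Tree

/-! Integer cycles of circuits, coboundaries on forests, circuit-coprime labellings. -/

set_option autoImplicit false

open Finset LabGraph

namespace Groth.Agent.LabCycH28

universe u

variable {V E : Type u} [Fintype V] [Fintype E] [DecidableEq V] [DecidableEq E]

/-- Adjacency through the edges of a set. -/
def AdjIn (ends : E → V × V) (D : Finset E) (a b : V) : Prop :=
  ∃ e ∈ D, ends e = (a, b) ∨ ends e = (b, a)

omit [Fintype V] [Fintype E] [DecidableEq V] [DecidableEq E] in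
theorem adjIn_symm {ends : E → V × V} {D : Finset E} {a b : V} (h : AdjIn ends D a b) : AdjIn ends D b a :=
  let ⟨e, he, h'⟩ := h; ⟨e, he, h'.symm⟩

/-- The coboundary of a vertex labelling. -/
def cob (ends : E → V × V) : (V → ℤ) →ₗ[ℤ] (E → ℤ) where
  toFun φ e := φ (ends e).2 - φ (ends e).1
  map_add' a b := by funext e; simp only [Pi.add_apply]; ring
  map_smul' c a := by funext e; simp only [Pi.smul_apply, smul_eq_mul, RingHom.id_apply]; ring

omit [DecidableEq E] in
theorem boundary_pair (ends : E → V × V) (γ : E → ℤ) (φ : V → ℤ) :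
    ∑ e, γ e * cob ends φ e = ∑ v, φ v * boundary ends γ v := by
  simp only [boundary, Finset.mul_sum]
  rw [Finset.sum_comm]
  refine Finset.sum_congr rfl fun e _ => ?_
  simp [cob, mul_sub, mul_ite, Finset.sum_sub_distrib, mul_comm]

omit [DecidableEq E] in
theorem orth_cob (ends : E → V × V) {γ : E → ℤ} (hγ : ∀ v, boundary ends γ v = 0) (φ : V → ℤ) :
    ∑ e, γ e * cob ends φ e = 0 := by
  rw [boundary_pair]; simp [hγ]

theorem path_vector (ends : E → V × V) (D : Finset E) {a b : V}
    (h : Relation.ReflTransGen (AdjIn ends D) a b) :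
    ∃ x : E → ℤ, (∀ e, e ∉ D → x e = 0) ∧
      ∀ v, boundary ends x v = (if b = v then 1 else 0) - (if a = v then 1 else 0) := by
  induction h with
  | refl => exact ⟨0, fun e _ => rfl, fun v => by simp [boundary]⟩
  | @tail c d _ hcd ih =>
    obtain ⟨x, hx1, hx2⟩ := ih
    obtain ⟨e, he, hor⟩ := hcd
    have hb : ∀ (c' : ℤ) v, boundary ends (x + Pi.single e c') v = boundary ends x v +
        ((if (ends e).2 = v then c' else 0) - (if (ends e).1 = v then c' else 0)) := by
      intro c' v
      simp only [boundary, Pi.add_apply]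
      rw [← Finset.add_sum_erase _ _ (mem_univ e), ← Finset.add_sum_erase _ _ (mem_univ e)]
      rw [Finset.sum_congr rfl (fun f hf => ?_)]
      · simp only [Pi.single_eq_same]; split_ifs <;> ring
      · simp [Pi.single_eq_of_ne (ne_of_mem_erase hf)]
    rcases hor with hor | hor
    · refine ⟨x + Pi.single e 1, fun f hf => ?_, fun v => ?_⟩
      · simp [hx1 f hf, Pi.single_eq_of_ne (fun h : f = e => hf (h ▸ he))]
      · rw [hb, hx2, hor]; ring
    · refine ⟨x + Pi.single e (-1), fun f hf => ?_, fun v => ?_⟩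
      · simp [hx1 f hf, Pi.single_eq_of_ne (fun h : f = e => hf (h ▸ he))]
      · rw [hb, hx2, hor]; split_ifs <;> ring

theorem endpoints_joined (ends : E → V × V) {C : Finset E} (hC : ∀ v, Even (endCount ends C v))
    {e₀ : E} (he₀ : e₀ ∈ C) :
    Relation.ReflTransGen (AdjIn ends (C.erase e₀)) (ends e₀).2 (ends e₀).1 := by
  classical
  by_contra hn
  let S := univ.filter fun v => Relation.ReflTransGen (AdjIn ends (C.erase e₀)) (ends e₀).2 v
  have h1 : ∑ v ∈ S, ∑ e ∈ C, LabDetH28.inc (ZMod 2) ends v e = 0 :=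
    Finset.sum_eq_zero fun v _ => (LabDetH28.even_iff _ C v).1 (hC v)
  rw [Finset.sum_comm, ← Finset.add_sum_erase _ _ he₀, Finset.sum_eq_zero (s := C.erase e₀)] at h1
  · rw [LabDetH28.inc_sum, if_neg (c := (ends e₀).1 ∈ S) (by simpa [S] using hn),
      if_pos (by simp [S, Relation.ReflTransGen.refl])] at h1
    simp at h1
  intro e he
  rw [LabDetH28.inc_sum]
  have hadj : AdjIn ends (C.erase e₀) (ends e).1 (ends e).2 := ⟨e, he, Or.inl rfl⟩
  have hiff : (ends e).1 ∈ S ↔ (ends e).2 ∈ S := by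
    simp only [S, mem_filter, mem_univ, true_and]
    exact ⟨fun h => h.tail hadj, fun h => h.tail (adjIn_symm hadj)⟩
  simp only [hiff, sub_self]

/-- An edge closed up by a path gives an integer cycle. -/
theorem cycle_of_joined (ends : E → V × V) (D : Finset E) (e₀ : E) (he₀ : e₀ ∉ D)
    (h : Relation.ReflTransGen (AdjIn ends D) (ends e₀).2 (ends e₀).1) :
    ∃ γ : E → ℤ, (∀ e, e ∉ insert e₀ D → γ e = 0) ∧ γ e₀ = 1 ∧ ∀ v, boundary ends γ v = 0 := by
  obtain ⟨x, hx1, hx2⟩ := path_vector ends D h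
  refine ⟨Function.update x e₀ 1, fun e he => ?_, Function.update_self .., fun v => ?_⟩
  · rw [mem_insert, not_or] at he
    rw [Function.update_of_ne he.1]; exact hx1 e he.2
  · have hv := hx2 v
    simp only [boundary] at hv ⊢
    rw [← Finset.add_sum_erase _ _ (mem_univ e₀)] at hv ⊢
    rw [Finset.sum_congr rfl (fun f hf => by rw [Function.update_of_ne (ne_of_mem_erase hf)])]
    simp only [Function.update_self, hx1 e₀ he₀, ite_self, sub_self, zero_add] at hv ⊢
    rw [hv]; ring

/-- An integer cycle supported on an even edge set with coefficient one at a given edge. -/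
theorem even_cycle (ends : E → V × V) {C : Finset E} (hC : ∀ v, Even (endCount ends C v))
    {e₀ : E} (he₀ : e₀ ∈ C) :
    ∃ γ : E → ℤ, (∀ e, e ∉ C → γ e = 0) ∧ γ e₀ = 1 ∧ ∀ v, boundary ends γ v = 0 := by
  obtain ⟨γ, h1, h2, h3⟩ := cycle_of_joined ends (C.erase e₀) e₀ (notMem_erase _ _)
    (endpoints_joined ends hC he₀)
  exact ⟨γ, fun e he => h1 e (by rwa [insert_erase he₀]), h2, h3⟩

/-- Prescribed differences along a forest. -/
theorem exists_cob_eq (ends : E → V × V) (x : E → ℤ) (F : Finset E)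
    (hF : ∀ C ⊆ F, ¬ IsCircuit ends C) : ∃ φ : V → ℤ, ∀ e ∈ F, cob ends φ e = x e := by
  classical
  induction F using Finset.induction with
  | empty => exact ⟨0, fun e he => absurd he (Finset.notMem_empty e)⟩
  | insert e₀ F he₀ ih =>
    obtain ⟨φ, hφ⟩ := ih fun C hC => hF C (hC.trans (subset_insert _ _))
    have hn : ¬ Relation.ReflTransGen (AdjIn ends F) (ends e₀).2 (ends e₀).1 := by
      intro h
      obtain ⟨γ, h1, h2, h3⟩ := cycle_of_joined ends F e₀ he₀ h
      let C := univ.filter fun e => ((γ e : ℤ) : ZMod 2) ≠ 0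
      have hCsub : C ⊆ insert e₀ F := fun e he => by
        by_contra hne
        simp [C, h1 e hne] at he
      have hev : ∀ v, Even (endCount ends C v) := fun v => by
        rw [LabDetH28.even_iff]
        have h4 := congrArg (fun z : ℤ => (z : ZMod 2)) (h3 v)
        simp only [boundary, Int.cast_sum, Int.cast_sub, Int.cast_zero] at h4
        rw [Finset.sum_filter]
        refine (Finset.sum_congr rfl fun e _ => ?_).trans h4
        push_cast
        simp only [LabDetH28.inc]
        generalize (γ e : ZMod 2) = a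
        revert a
        split_ifs <;> decide
      obtain ⟨C', h5, h6⟩ := LabDetH28.exists_circuit_subset ends C ⟨e₀, by simp [C, h2]⟩ hev
      exact hF C' (h5.trans hCsub) h6
    let c := x e₀ - cob ends φ e₀
    refine ⟨fun v => φ v + if Relation.ReflTransGen (AdjIn ends F) (ends e₀).2 v then c else 0, ?_⟩
    intro e he
    rcases mem_insert.1 he with rfl | he
    · simp only [cob, LinearMap.coe_mk, AddHom.coe_mk]
      rw [if_pos Relation.ReflTransGen.refl, if_neg hn]
      simp only [c, cob, LinearMap.coe_mk, AddHom.coe_mk]; ring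
    · have hadj : AdjIn ends F (ends e).1 (ends e).2 := ⟨e, he, Or.inl rfl⟩
      have hiff : Relation.ReflTransGen (AdjIn ends F) (ends e₀).2 (ends e).1 ↔
          Relation.ReflTransGen (AdjIn ends F) (ends e₀).2 (ends e).2 :=
        ⟨fun h => h.tail hadj, fun h => h.tail (adjIn_symm hadj)⟩
      have h0 := hφ e he
      simp only [cob, LinearMap.coe_mk, AddHom.coe_mk] at h0 ⊢
      by_cases h : Relation.ReflTransGen (AdjIn ends F) (ends e₀).2 (ends e).2
      · rw [if_pos h, if_pos (hiff.2 h), ← h0]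
        ring
      · rw [if_neg h, if_neg (mt hiff.1 h), ← h0]
        ring

/-- For a circuit-coprime labelling every edge vector is a coboundary up to the labels. -/
theorem decompose (ends : E → V × V) (l : E → ℕ) (hl : ∀ e, 0 < l e)
    (hcop : IsCircuitCoprime ends l) (x : E → ℤ) :
    ∃ (φ : V → ℤ) (y : E → ℤ), ∀ e, x e = cob ends φ e + (l e : ℤ) * y e := by
  classical
  have hprime : ∀ p : ℕ, p.Prime → ∀ x : E → ℤ, ∃ (φ : V → ℤ) (y z : E → ℤ),
      ∀ e, x e = cob ends φ e + (l e : ℤ) * y e + (p : ℤ) * z e := by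
    intro p hp x
    let F := univ.filter fun e => p ∣ l e
    obtain ⟨φ, hφ⟩ := exists_cob_eq ends x F fun C hC hcirc => by
      have h1 : p ∣ C.gcd l := Finset.dvd_gcd fun e he => (mem_filter.1 (hC he)).2
      rw [hcop C hcirc] at h1
      exact hp.one_lt.ne' (Nat.dvd_one.1 h1)
    have hb : ∀ e, ∃ y z : ℤ, x e - cob ends φ e = (l e : ℤ) * y + (p : ℤ) * z := by
      intro e
      by_cases he : p ∣ l e
      · exact ⟨0, 0, by rw [hφ e (by simp [F, he])]; simp⟩
      · obtain ⟨a, b, hab⟩ := (Int.isCoprime_iff_gcd_eq_one.2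
          ((Nat.coprime_comm.1 ((Nat.Prime.coprime_iff_not_dvd hp).2 he)) : Int.gcd (l e : ℤ) (p : ℤ) = 1))
        exact ⟨a * (x e - cob ends φ e), b * (x e - cob ends φ e),
          by linear_combination (-(x e - cob ends φ e)) * hab⟩
    choose y z hyz using hb
    exact ⟨φ, y, z, fun e => by linear_combination hyz e⟩
  have hall : ∀ n : ℕ, n ≠ 0 → ∀ x : E → ℤ, ∃ (φ : V → ℤ) (y z : E → ℤ),
      ∀ e, x e = cob ends φ e + (l e : ℤ) * y e + (n : ℤ) * z e := by
    intro n
    induction n using induction_on_primes with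
    | zero => intro h; exact absurd rfl h
    | one => intro _ x; exact ⟨0, 0, x, fun e => by simp [cob]⟩
    | prime_mul p n hp ih =>
      intro h x
      obtain ⟨φ, y, z, h1⟩ := hprime p hp x
      obtain ⟨φ', y', z', h2⟩ := ih (right_ne_zero_of_mul h) z
      refine ⟨φ + (p : ℤ) • φ', y + (p : ℤ) • y', z', fun e => ?_⟩
      rw [map_add, map_smul, Pi.add_apply, Pi.add_apply, Pi.smul_apply, Pi.smul_apply, h1 e, h2 e]
      simp only [smul_eq_mul]
      push_cast
      ring
  obtain ⟨φ, y, z, h⟩ := hall (∏ e, l e) (Finset.prod_ne_zero_iff.2 fun e _ => (hl e).ne') x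
  refine ⟨φ, fun e => y e + ((∏ f ∈ univ.erase e, l f : ℕ) : ℤ) * z e, fun e => ?_⟩
  rw [h e, ← Finset.mul_prod_erase _ l (mem_univ e)]
  push_cast
  ring

/-- Decomposability forces circuit-coprimality. -/
theorem coprime_of_orth (ends : E → V × V) (l : E → ℕ)
    (h : ∀ x : E → ℤ, ∃ y : E → ℤ, ∀ γ : E → ℤ, (∀ v : V, boundary ends γ v = 0) →
        ∑ e : E, γ e * (x e - (l e : ℤ) * y e) = 0) : IsCircuitCoprime ends l := by
  intro C hC
  obtain ⟨e₀, he₀⟩ := hC.1
  obtain ⟨γ, h1, h2, h3⟩ := even_cycle ends hC.2.1 he₀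
  obtain ⟨y, hy⟩ := h (Pi.single e₀ 1)
  have h4 := hy γ h3
  simp only [mul_sub, Finset.sum_sub_distrib, Pi.single_apply, mul_ite, mul_one, mul_zero,
    Finset.sum_ite_eq', mem_univ, if_true, h2] at h4
  have h5 : ((C.gcd l : ℕ) : ℤ) ∣ ∑ e, γ e * ((l e : ℤ) * y e) := Finset.dvd_sum fun e _ => by
    by_cases he : e ∈ C
    · exact ((Int.natCast_dvd_natCast.2 (Finset.gcd_dvd he)).mul_right _).mul_left _
    · simp [h1 e he]
  rw [← sub_eq_zero.1 h4] at h5
  exact Nat.dvd_one.1 (Int.natCast_dvd_natCast.1 h5)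

end Groth.Agent.LabCycH28
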