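import Groth.Agent.Lib.LabCycH28.Basic

/-! Multidegrees on the total blow-up of a labelled multigraph. -/

set_option autoImplicit false

open Finset LabGraph

namespace Groth.Agent.LabCycH28

universe u

variable {V E : Type u} [Fintype V] [Fintype E] [DecidableEq V] [DecidableEq E]

variable (ends : E → V × V) (l : E → ℕ)

theorem mdeg_one {V' E' : Type u} [Fintype E'] [DecidableEq V'] (en : E' → V' × V') (ψ : V' → ℤ) (w : V') :
    mdeg en (fun _ => 1) ψ w = ∑ p : E', ((if (en p).1 = w then ψ (en p).2 - ψ (en p).1 else 0) +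
      (if (en p).2 = w then ψ (en p).1 - ψ (en p).2 else 0)) := by
  simp [mdeg]

theorem pathVert_zero (e : E) : pathVert ends l e 0 = Sum.inl (ends e).1 := rfl

theorem pathVert_mid (e : E) (j : ℕ) (h : j + 1 < l e) :
    pathVert ends l e (j + 1) = Sum.inr ⟨e, ⟨j, by omega⟩⟩ := by
  simp [pathVert, h]

theorem pathVert_last (e : E) (hl : 0 < l e) : pathVert ends l e (l e) = Sum.inl (ends e).2 := by
  simp [pathVert, hl.ne']

theorem pathVert_eq_inl (e : E) (j : ℕ) (v : V) (hl : 0 < l e) (hj : j ≤ l e) :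
    pathVert ends l e j = Sum.inl v ↔ (j = 0 ∧ (ends e).1 = v) ∨ (j = l e ∧ (ends e).2 = v) := by
  unfold pathVert
  by_cases h0 : j = 0
  · simp [h0, hl.ne]
  · by_cases h : j < l e
    · simp [h0, h, h.ne]
    · simp [h0, h, le_antisymm hj (not_lt.1 h), hl.ne']

theorem pathVert_eq_inr (e e' : E) (j : ℕ) (i : Fin (l e' - 1)) :
    pathVert ends l e j = Sum.inr ⟨e', i⟩ ↔ e = e' ∧ j = (i : ℕ) + 1 := by
  unfold pathVert
  by_cases h0 : j = 0
  · simp [h0]
  · by_cases h : j < l e
    · simp only [h0, h, dif_pos, dif_neg, not_false_iff, Sum.inr.injEq, Sigma.mk.injEq]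
      constructor
      · rintro ⟨rfl, h2⟩
        exact ⟨rfl, by have := congrArg Fin.val (eq_of_heq h2); simp at this; omega⟩
      · rintro ⟨rfl, h2⟩
        exact ⟨rfl, heq_of_eq (Fin.ext (by simp; omega))⟩
    · simp only [h0, h, dif_neg, not_false_iff, reduceCtorEq, false_iff, not_and]
      rintro rfl h2
      exact h (by have := i.2; omega)

/-- The multidegree of the blow-up at a new vertex is the second difference along the path. -/
theorem mdeg_inr (ψ : BlVert V E l → ℤ) (e : E) (i : Fin (l e - 1)) :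
    mdeg (blEnds ends l) (fun _ => 1) ψ (Sum.inr ⟨e, i⟩) =
      ψ (pathVert ends l e i) - 2 * ψ (pathVert ends l e (i + 1)) + ψ (pathVert ends l e (i + 2)) := by
  have hi := i.2
  rw [mdeg_one, Fintype.sum_sigma]
  rw [Finset.sum_eq_single e (fun e' _ hne => Finset.sum_eq_zero fun k _ => by
    simp only [blEnds, pathVert_eq_inr, hne, false_and, if_false, add_zero]) (by simp)]
  simp only [blEnds, pathVert_eq_inr, true_and]
  rw [Finset.sum_add_distrib]
  have h1 : (∑ k : Fin (l e), if (k : ℕ) = (i : ℕ) + 1 then ψ (pathVert ends l e (↑k + 1)) - ψ (pathVert ends l e ↑k) else 0)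
      = ψ (pathVert ends l e (i + 2)) - ψ (pathVert ends l e (i + 1)) := by
    rw [Finset.sum_eq_single (⟨i + 1, by omega⟩ : Fin (l e)) (fun k _ hk => if_neg fun h => hk (Fin.ext h)) (by simp)]
    simp
  have h2 : (∑ k : Fin (l e), if (k : ℕ) + 1 = (i : ℕ) + 1 then ψ (pathVert ends l e ↑k) - ψ (pathVert ends l e (↑k + 1)) else 0)
      = ψ (pathVert ends l e i) - ψ (pathVert ends l e (i + 1)) := by
    rw [Finset.sum_eq_single (⟨i, by omega⟩ : Fin (l e))
      (fun k _ hk => if_neg fun h => hk (Fin.ext (show (k : ℕ) = (i : ℕ) by omega))) (by simp)]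
    simp
  rw [h1, h2]; ring

/-- The multidegree of the blow-up at an old vertex only sees the end edges of the paths. -/
theorem mdeg_inl (hl : ∀ e, 0 < l e) (ψ : BlVert V E l → ℤ) (v : V) :
    mdeg (blEnds ends l) (fun _ => 1) ψ (Sum.inl v) =
      ∑ e, ((if (ends e).1 = v then ψ (pathVert ends l e 1) - ψ (pathVert ends l e 0) else 0) +
        (if (ends e).2 = v then ψ (pathVert ends l e (l e - 1)) - ψ (pathVert ends l e (l e)) else 0)) := by
  rw [mdeg_one, Fintype.sum_sigma]
  refine Finset.sum_congr rfl fun e _ => ?_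
  have := hl e
  rw [Finset.sum_add_distrib]
  simp only [blEnds]
  congr 1
  · rw [Finset.sum_eq_single (⟨0, this⟩ : Fin (l e))
      (fun k _ hk => if_neg fun h => by
        rcases (pathVert_eq_inl ends l e k v this k.2.le).1 h with ⟨h0, -⟩ | ⟨h0, -⟩
        · exact hk (Fin.ext h0)
        · exact absurd h0 k.2.ne) (by simp)]
    simp [pathVert_zero]
  · rw [Finset.sum_eq_single (⟨l e - 1, by omega⟩ : Fin (l e))
      (fun k _ hk => if_neg fun h => by
        rcases (pathVert_eq_inl ends l e (k + 1) v this k.2).1 h with ⟨h0, -⟩ | ⟨h0, -⟩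
        · omega
        · exact hk (Fin.ext (show (k : ℕ) = l e - 1 by omega))) (by simp)]
    simp [Nat.sub_add_cancel this, pathVert_last ends l e this]

end Groth.Agent.LabCycH28
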